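import Cfsg.Agent.H70.Conj
import Cfsg.Agent.H16.OddOrder
import Cfsg.Agent.H2.FPFSubgroup
import Mathlib

/-!
A group `H` of automorphisms of an abelian group `N` with maximal stabilisers: first consequences.
-/

set_option autoImplicit false
set_option linter.unusedSectionVars false
set_option linter.style.haveILetI false

namespace H80.XA

open Subgroup
open scoped commutatorElement
open H70 (cj)

variable {G : Type*} [Group G]

/-- The stabiliser of `v` in `H`. -/
abbrev st (H : Subgroup G) (v : G) : Subgroup G := H ⊓ centralizer ({v} : Set G)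

theorem mem_st {H : Subgroup G} {v h : G} : h ∈ st H v ↔ h ∈ H ∧ h * v = v * h := by
  rw [Subgroup.mem_inf, mem_centralizer_singleton_iff]

theorem nm_of {L K : Subgroup G} (h : ∀ l ∈ L, ∀ k ∈ K, l * k * l⁻¹ ∈ K) :
    L ≤ normalizer (K : Set G) := by
  intro l hl
  rw [mem_normalizer_iff]
  refine fun k => ⟨fun hk => h l hl k hk, fun hk => ?_⟩
  have h1 := h l⁻¹ (inv_mem hl) _ hk
  simpa [mul_assoc] using h1

theorem conj_mem {L K : Subgroup G} (h : L ≤ normalizer (K : Set G)) {l k : G} (hl : l ∈ L)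
    (hk : k ∈ K) : l * k * l⁻¹ ∈ K :=
  (mem_normalizer_iff.1 (h hl) k).1 hk

theorem nm_inf {L A B : Subgroup G} (hA : L ≤ normalizer (A : Set G))
    (hB : L ≤ normalizer (B : Set G)) : L ≤ normalizer ((A ⊓ B : Subgroup G) : Set G) :=
  nm_of fun _ hl _ hk => ⟨conj_mem hA hl hk.1, conj_mem hB hl hk.2⟩

theorem nm_centralizer {L A : Subgroup G} (hA : L ≤ normalizer (A : Set G)) :
    L ≤ normalizer ((centralizer (A : Set G) : Subgroup G) : Set G) := by
  refine nm_of fun l hl c hc => mem_centralizer_iff.2 fun a ha => ?_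
  have h1 : l⁻¹ * a * l ∈ A := by simpa using conj_mem hA (inv_mem hl) ha
  have h2 := mem_centralizer_iff.1 hc _ h1
  calc a * (l * c * l⁻¹) = l * ((l⁻¹ * a * l) * c) * l⁻¹ := by group
    _ = l * (c * (l⁻¹ * a * l)) * l⁻¹ := by rw [h2]
    _ = l * c * l⁻¹ * a := by group

/-- In an abelian-free situation: a minimal normal subgroup has even order. -/
theorem even_of_min [Finite G] {L K : Subgroup G} (hn : L ≤ normalizer (K : Set G))
    (hmin : ∀ J : Subgroup G, J ≤ K → L ≤ normalizer (J : Set G) → J = ⊥ ∨ J = K)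
    (hne : K ≠ ⊥) (hna : ¬ ∀ a ∈ K, ∀ b ∈ K, a * b = b * a) : 2 ∣ Nat.card K := by
  by_contra h2
  haveI : Group.IsSolvable ↥K := H16.FT.oddOrder (Nat.odd_iff.2 (Nat.two_dvd_ne_zero.1 h2))
  haveI : Nontrivial ↥K := (Subgroup.nontrivial_iff_ne_bot K).2 hne
  have hlt : commutator ↥K < ⊤ := IsSolvable.commutator_lt_top_of_nontrivial ↥K
  have hle : ⁅K, K⁆ ≤ K := commutator_le.2 fun a ha b hb => by
    rw [commutatorElement_def]
    exact mul_mem (mul_mem (mul_mem ha hb) (inv_mem ha)) (inv_mem hb)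
  have hnn : L ≤ normalizer ((⁅K, K⁆ : Subgroup G) : Set G) := by
    refine nm_of fun l hl x hx => ?_
    have h1 : cj l ⁅K, K⁆ = ⁅K, K⁆ := by
      rw [H70.cj, map_commutator]
      show ⁅cj l K, cj l K⁆ = _
      rw [H70.cj_eq_self_iff.2 (hn hl)]
    rw [← h1]
    exact ⟨x, hx, rfl⟩
  rcases hmin _ hle hnn with h | h
  · apply hna
    intro a ha b hb
    have h3 : ⁅a, b⁆ ∈ (⊥ : Subgroup G) := h ▸ commutator_mem_commutator ha hb
    exact commutatorElement_eq_one_iff_mul_comm.1 (mem_bot.1 h3)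
  · apply hlt.ne
    apply map_injective (f := K.subtype) Subtype.val_injective
    rw [map_subtype_commutator, h, ← MonoidHom.range_eq_map, K.range_subtype]

/-- The set-up: `H` acts irreducibly and faithfully on the abelian `N` with maximal stabilisers. -/
structure Hyp (H N : Subgroup G) : Prop where
  comm : ∀ a ∈ N, ∀ b ∈ N, a * b = b * a
  norm : ∀ h ∈ H, ∀ v ∈ N, h * v * h⁻¹ ∈ N
  irr : ∀ W : Subgroup G, W ≤ N → W ≠ ⊥ → (∀ h ∈ H, ∀ v ∈ W, h * v * h⁻¹ ∈ W) → W = N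
  faith : ∀ h ∈ H, (∀ v ∈ N, h * v = v * h) → h = 1
  nofix : ∀ v ∈ N, v ≠ 1 → ∃ h ∈ H, h * v ≠ v * h
  ne : N ≠ ⊥
  max : ∀ v ∈ N, v ≠ 1 → ∀ K : Subgroup G, K ≤ H → st H v ≤ K → K = st H v ∨ K = H
  nsol : ¬ Group.IsSolvable ↥H

namespace Hyp

variable {H N : Subgroup G} (h : Hyp H N)
include h

theorem core_free {v : G} (hv : v ∈ N) (hv1 : v ≠ 1) {K : Subgroup G} (hK : K ≤ st H v)
    (hn : H ≤ normalizer (K : Set G)) : K = ⊥ := by
  rw [eq_bot_iff]
  intro k hk
  have hW : N ⊓ centralizer (K : Set G) = N := by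
    refine h.irr _ inf_le_left ?_ fun g hg w hw =>
      ⟨h.norm g hg w hw.1, conj_mem (nm_centralizer hn) hg hw.2⟩
    intro h0
    exact hv1 (mem_bot.1 (h0 ▸ ⟨hv, mem_centralizer_iff.2 fun k hk => (mem_st.1 (hK hk)).2⟩))
  refine mem_bot.2 (h.faith k (mem_st.1 (hK hk)).1 fun w hw => ?_)
  have : w ∈ centralizer (K : Set G) := (hW.ge hw).2
  exact mem_centralizer_iff.1 this k hk

theorem exp {p : ℕ} [Finite G] (hp : p.Prime) (hdvd : p ∣ Nat.card N) :
    ∀ v ∈ N, v ^ p = 1 := by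
  let W : Subgroup G :=
    { carrier := {v | v ∈ N ∧ v ^ p = 1}
      one_mem' := ⟨one_mem N, one_pow p⟩
      mul_mem' := fun {a b} ha hb => ⟨mul_mem ha.1 hb.1, by
        rw [Commute.mul_pow (h.comm a ha.1 b hb.1), ha.2, hb.2, one_mul]⟩
      inv_mem' := fun {a} ha => ⟨inv_mem ha.1, by rw [inv_pow, ha.2, inv_one]⟩ }
  have hW : W = N := by
    refine h.irr W (fun v hv => hv.1) ?_ fun g hg v hv =>
      ⟨h.norm g hg v hv.1, by rw [conj_pow, hv.2]; group⟩
    haveI : Fact p.Prime := ⟨hp⟩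
    obtain ⟨x, hx⟩ := exists_prime_orderOf_dvd_card' (G := ↥N) p hdvd
    intro h0
    have hxW : (x : G) ∈ W := ⟨x.2, by
      rw [← Subgroup.coe_pow, ← hx, pow_orderOf_eq_one, Subgroup.coe_one]⟩
    rw [h0, mem_bot, OneMemClass.coe_eq_one] at hxW
    rw [hxW, orderOf_one] at hx
    exact hp.ne_one hx.symm
  exact fun v hv => (hW.ge hv).2

theorem even [Finite G] : 2 ∣ Nat.card H := by
  by_contra h2
  exact h.nsol (H16.FT.oddOrder (Nat.odd_iff.2 (Nat.two_dvd_ne_zero.1 h2)))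

/-- `N` has exponent two. -/
theorem sq [Finite G] : ∀ v ∈ N, v * v = 1 := by
  haveI : Fact (Nat.Prime 2) := ⟨Nat.prime_two⟩
  obtain ⟨t, ht⟩ := exists_prime_orderOf_dvd_card' (G := ↥H) 2 h.even
  have ht1 : (t : G) ≠ 1 := fun h0 => by
    rw [OneMemClass.coe_eq_one] at h0; simp [h0] at ht
  obtain ⟨w, hw, htw⟩ : ∃ w ∈ N, (t : G) * w ≠ w * t := by
    by_contra hc; push Not at hc; exact ht1 (h.faith t t.2 hc)
  have htt : (t : G) * t = 1 := by
    rw [← pow_two, ← Subgroup.coe_pow, ← ht, pow_orderOf_eq_one, Subgroup.coe_one]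
  have hti : (t : G)⁻¹ = t := inv_eq_of_mul_eq_one_right htt
  set w' := (t : G) * w * (t : G)⁻¹ with hw'
  have hw'N : w' ∈ N := h.norm t t.2 w hw
  set v := w' * w⁻¹ with hv
  have hvN : v ∈ N := mul_mem hw'N (inv_mem hw)
  have hv1 : v ≠ 1 := fun h0 => htw (by
    have := mul_inv_eq_one.1 h0
    rw [hw', mul_inv_eq_iff_eq_mul] at this
    exact this)
  have htv : (t : G) * v * (t : G)⁻¹ = v⁻¹ := by
    rw [hv, mul_inv_rev, inv_inv]
    calc (t : G) * (w' * w⁻¹) * (t : G)⁻¹ = ((t : G) * t) * w * ((t : G) * t)⁻¹ * w'⁻¹ := by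
          rw [hw']; group
      _ = w * w'⁻¹ := by rw [htt, one_mul, inv_one, mul_one]
  obtain ⟨p, hp, hpd⟩ : ∃ p : ℕ, p.Prime ∧ p ∣ Nat.card N := by
    refine ⟨_, Nat.minFac_prime ?_, Nat.minFac_dvd _⟩
    exact fun h1 => h.ne (Subgroup.card_eq_one.1 h1)
  by_cases hp2 : p = 2
  · intro u hu
    rw [← pow_two, ← hp2]
    exact h.exp hp hpd u hu
  exfalso
  have hvv : v⁻¹ ≠ v := by
    intro h0
    have h2 : v ^ 2 = 1 := by rw [pow_two]; nth_rewrite 1 [← h0]; rw [inv_mul_cancel]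
    have hg := pow_gcd_eq_one.2 ⟨h2, h.exp hp hpd v hvN⟩
    rw [(Nat.coprime_primes Nat.prime_two hp).2 (Ne.symm hp2), pow_one] at hg
    exact hv1 hg
  -- the stabiliser of `{v, v⁻¹}`
  let Y : Subgroup G :=
    { carrier := {g | g ∈ H ∧ (g * v * g⁻¹ = v ∨ g * v * g⁻¹ = v⁻¹)}
      one_mem' := ⟨one_mem H, Or.inl (by simp)⟩
      mul_mem' := fun {a b} ha hb => ⟨mul_mem ha.1 hb.1, by
        have e : a * b * v * (a * b)⁻¹ = a * (b * v * b⁻¹) * a⁻¹ := by group
        rw [e]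
        have e' : a * v⁻¹ * a⁻¹ = (a * v * a⁻¹)⁻¹ := conj_inv.symm
        rcases ha.2 with ha' | ha' <;> rcases hb.2 with hb' | hb' <;>
          simp [hb', ha', e']⟩
      inv_mem' := fun {a} ha => ⟨inv_mem ha.1, by
        rcases ha.2 with ha' | ha'
        · left
          calc a⁻¹ * v * a⁻¹⁻¹ = a⁻¹ * (a * v * a⁻¹) * a := by rw [ha']; group
            _ = v := by group
        · right
          calc a⁻¹ * v * a⁻¹⁻¹ = (a⁻¹ * (a * v * a⁻¹) * a)⁻¹ := by rw [ha']; group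
            _ = v⁻¹ := by group⟩ }
  have hY : Y = H := by
    rcases h.max v hvN hv1 Y (fun g hg => hg.1) (fun g hg => ⟨(mem_st.1 hg).1, Or.inl (by
      rw [mul_inv_eq_iff_eq_mul]; exact (mem_st.1 hg).2)⟩) with hY | hY
    · exfalso
      have h1 : (t : G) ∈ st H v := hY ▸ (⟨t.2, Or.inr htv⟩ : (t : G) ∈ Y)
      exact hvv (htv.symm.trans (mul_inv_eq_iff_eq_mul.2 (mem_st.1 h1).2))
    · exact hY
  have hX : st H v = ⊥ := by
    refine h.core_free hvN hv1 le_rfl (nm_of fun g hg c hc => ?_)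
    refine mem_st.2 ⟨mul_mem (mul_mem hg (mem_st.1 hc).1) (inv_mem hg), ?_⟩
    have hcv := (mem_st.1 hc).2
    have hgv : g⁻¹ * v * g = v ∨ g⁻¹ * v * g = v⁻¹ := by
      have := (hY.ge (inv_mem hg)).2
      simpa using this
    have hc2 : c * (g⁻¹ * v * g) = (g⁻¹ * v * g) * c := by
      rcases hgv with e | e <;> rw [e]
      · exact hcv
      · exact (Commute.inv_right hcv : Commute c v⁻¹)
    calc g * c * g⁻¹ * v = g * (c * (g⁻¹ * v * g)) * g⁻¹ := by group
      _ = g * ((g⁻¹ * v * g) * c) * g⁻¹ := by rw [hc2]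
      _ = v * (g * c * g⁻¹) := by group
  -- so `H` has order two
  apply h.nsol
  apply Group.isSolvable_of_comm
  intro a b
  have key : ∀ g : ↥H, g = 1 ∨ g = t := by
    intro g
    rcases (hY.ge g.2).2 with e | e
    · left
      have : (g : G) ∈ st H v := mem_st.2 ⟨g.2, mul_inv_eq_iff_eq_mul.1 e⟩
      rw [hX, mem_bot, OneMemClass.coe_eq_one] at this
      exact this
    · right
      have : ((t : G)⁻¹ * g) ∈ st H v := by
        refine mem_st.2 ⟨mul_mem (inv_mem t.2) g.2, mul_inv_eq_iff_eq_mul.1 ?_⟩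
        calc (t : G)⁻¹ * g * v * ((t : G)⁻¹ * g)⁻¹
            = (t : G)⁻¹ * ((g : G) * v * (g : G)⁻¹) * t := by group
          _ = (t : G)⁻¹ * ((t : G) * v * (t : G)⁻¹) * t := by rw [e, htv]
          _ = v := by group
      rw [hX, mem_bot, inv_mul_eq_one] at this
      exact Subtype.ext this.symm
  rcases key a with rfl | rfl <;> rcases key b with rfl | rfl <;> simp

/-- An involution of `H` fixes a nonidentity element. -/
theorem inv_fix [Finite G] {t : G} (ht : t ∈ H) (htt : t * t = 1) :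
    ∃ v ∈ N, v ≠ 1 ∧ t ∈ st H v := by
  obtain ⟨u, hu, hu1⟩ := N.bot_or_exists_ne_one.resolve_left h.ne
  have hti : t⁻¹ = t := inv_eq_of_mul_eq_one_right htt
  by_cases htu : t * u = u * t
  · exact ⟨u, hu, hu1, mem_st.2 ⟨ht, htu⟩⟩
  have hu' : t * u * t ∈ N := by simpa [hti] using h.norm t ht u hu
  refine ⟨u * (t * u * t), mul_mem hu hu', fun h0 => htu ?_, mem_st.2 ⟨ht, ?_⟩⟩
  · have h1 : t * u * t = u := by
      rw [← inv_eq_of_mul_eq_one_right h0]
      exact inv_eq_of_mul_eq_one_right (h.sq u hu)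
    calc t * u = t * u * t * t := by rw [mul_assoc (t * u), htt, mul_one]
      _ = u * t := by rw [h1]
  · calc t * (u * (t * u * t)) = (t * u * t) * (u * t) := by group
      _ = u * (t * u * t) * t := by rw [← mul_assoc, h.comm _ hu' u hu]

theorem abelian_normal [Finite G] {M : Subgroup G} (hMH : M ≤ H)
    (hn : H ≤ normalizer (M : Set G)) (hc : ∀ a ∈ M, ∀ b ∈ M, a * b = b * a) : M = ⊥ := by
  by_contra hne
  have hsup : ∀ v ∈ N, v ≠ 1 → st H v ⊔ M = H := fun v hv hv1 => by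
    rcases h.max v hv hv1 (st H v ⊔ M) (sup_le inf_le_left hMH) le_sup_left with e | e
    · exact absurd (h.core_free hv hv1 (e ▸ le_sup_right) hn) hne
    · exact e
  have hfree : ∀ v ∈ N, v ≠ 1 → M ⊓ st H v = ⊥ := fun v hv hv1 => by
    refine h.core_free hv hv1 inf_le_right ?_
    refine (hsup v hv hv1).ge.trans (sup_le (nm_inf (inf_le_left.trans hn) le_normalizer) ?_)
    refine nm_of fun m hm d hd => ?_
    rwa [hc m hm d hd.1, mul_inv_cancel_right]
  haveI : IsMulCommutative ↥N := ⟨⟨fun a b => Subtype.ext (h.comm a a.2 b b.2)⟩⟩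
  have hcyc : IsCyclic ↥M := by
    refine H2.isCyclic_of_fpf_subgroup M N (hMH.trans (nm_of h.norm)) h.ne (fun a ha ha1 => ?_)
      (Or.inl ⟨⟨fun x y => Subtype.ext (hc x x.2 y y.2)⟩⟩)
    rw [eq_bot_iff]
    intro v hv
    by_contra hv1
    have : a ∈ M ⊓ st H v :=
      ⟨ha, mem_st.2 ⟨hMH ha, (mem_centralizer_singleton_iff.1 hv.2).symm⟩⟩
    rw [hfree v hv.1 (by simpa using hv1), mem_bot] at this
    exact ha1 this
  obtain ⟨v, hv, hv1⟩ := N.bot_or_exists_ne_one.resolve_left h.ne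
  have hCn : st H v ≤ normalizer (M : Set G) := inf_le_left.trans hn
  have hE : st H v ⊓ centralizer (M : Set G) = ⊥ := by
    refine h.core_free hv hv1 inf_le_left ?_
    refine (hsup v hv hv1).ge.trans (sup_le (nm_inf le_normalizer (nm_centralizer hCn)) ?_)
    refine nm_of fun m hm d hd => ?_
    rwa [mem_centralizer_iff.1 hd.2 m hm, mul_inv_cancel_right]
  obtain ⟨⟨g, hg⟩, hgen⟩ := hcyc.exists_generator
  have hcomm : ∀ c ∈ st H v, ∀ d ∈ st H v, c * d = d * c := by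
    intro c hc' d hd'
    have hact : ∀ x ∈ st H v, ∃ k : ℤ, x * g * x⁻¹ = g ^ k := fun x hx => by
      obtain ⟨k, hk⟩ := mem_zpowers_iff.1 (hgen ⟨_, conj_mem hCn hx hg⟩)
      exact ⟨k, by simpa using (congrArg Subtype.val hk).symm⟩
    obtain ⟨a, ha⟩ := hact c hc'
    obtain ⟨b, hb⟩ := hact d hd'
    have key : (c * d) * g * (c * d)⁻¹ = (d * c) * g * (d * c)⁻¹ := by
      calc (c * d) * g * (c * d)⁻¹ = c * (d * g * d⁻¹) * c⁻¹ := by group
        _ = (g ^ a) ^ b := by rw [hb, ← conj_zpow, ha]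
        _ = (g ^ b) ^ a := by rw [← zpow_mul, ← zpow_mul, mul_comm]
        _ = d * (c * g * c⁻¹) * d⁻¹ := by rw [ha, ← conj_zpow, hb]
        _ = (d * c) * g * (d * c)⁻¹ := by group
    have h1 : (d * c)⁻¹ * (c * d) ∈ st H v ⊓ centralizer (M : Set G) := by
      refine Subgroup.mem_inf.2
        ⟨mul_mem (inv_mem (mul_mem hd' hc')) (mul_mem hc' hd'), mem_centralizer_iff.2 ?_⟩
      intro m hm
      obtain ⟨k, hk⟩ := mem_zpowers_iff.1 (hgen ⟨m, hm⟩)
      have hk' : g ^ k = m := by simpa using congrArg Subtype.val hk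
      set e := (d * c)⁻¹ * (c * d) with he
      have heg : Commute g e := by
        show g * e = e * g
        rw [he]
        calc g * ((d * c)⁻¹ * (c * d)) = (d * c)⁻¹ * (((d * c) * g * (d * c)⁻¹)) * (c * d) := by
              group
          _ = (d * c)⁻¹ * ((c * d) * g * (c * d)⁻¹) * (c * d) := by rw [key]
          _ = (d * c)⁻¹ * (c * d) * g := by group
      rw [← hk']
      exact (heg.zpow_left k).eq
    rw [hE, mem_bot, inv_mul_eq_one] at h1
    exact h1.symm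
  apply h.nsol
  haveI hMn : (M.subgroupOf H).Normal := normal_subgroupOf_of_le_normalizer hn
  haveI : Group.IsSolvable ↥(M.subgroupOf H) :=
    Group.isSolvable_of_comm fun a b => Subtype.ext (Subtype.ext (hc _ a.2 _ b.2))
  haveI : Group.IsSolvable (↥H ⧸ M.subgroupOf H) := by
    haveI : Group.IsSolvable ↥(st H v) :=
      Group.isSolvable_of_comm fun a b => Subtype.ext (hcomm a a.2 b b.2)
    refine Group.isSolvable_of_surjective (f := (QuotientGroup.mk' (M.subgroupOf H)).comp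
      (inclusion (inf_le_left : st H v ≤ H))) ?_
    intro q
    obtain ⟨⟨x, hx⟩, rfl⟩ := QuotientGroup.mk'_surjective _ q
    have hx' : x ∈ ((st H v ⊔ M : Subgroup G) : Set G) := (hsup v hv hv1).ge hx
    rw [coe_mul_of_left_le_normalizer_right _ _ hCn] at hx'
    obtain ⟨c, hc', m, hm, rfl⟩ := hx'
    refine ⟨⟨c, hc'⟩, ?_⟩
    refine QuotientGroup.eq.2 ?_
    rw [mem_subgroupOf]
    simpa using hm
  exact (Group.isSolvable_iff_subgroup_quotient (M.subgroupOf H)).2 ⟨inferInstance, inferInstance⟩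

end Hyp

end H80.XA
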