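import Mathlib

/-!
Two commuting operators of prime order on a module of exponent two: if every vector fixed by some
`aⁱ b` (`0 < i < r`) is fixed by `a`, then `b` fixes the image of `a - 1`.
-/

set_option autoImplicit false

namespace H80.XA

theorem geom_fix {R : Type*} [Ring R] {x : R} {r : ℕ} (hx : x ^ r = 1) :
    x * ∑ t ∈ Finset.range r, x ^ t = ∑ t ∈ Finset.range r, x ^ t := by
  have h := mul_geom_sum x r
  rw [hx, sub_self, sub_mul, one_mul, sub_eq_zero] at h
  exact h

theorem esum {V : Type*} [AddCommGroup V] {ι : Type*} (s : Finset ι) (f : ι → AddMonoid.End V)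
    (v : V) : (∑ i ∈ s, f i) v = ∑ i ∈ s, f i v :=
  map_sum (AddMonoidHom.eval v) f s

theorem mix {V : Type*} [AddCommGroup V] (hV : ∀ v : V, v + v = 0) {r : ℕ} (hr : r.Prime)
    (A B : AddMonoid.End V) (hAB : Commute A B) (hA : A ^ r = 1) (hB : B ^ r = 1)
    (h : ∀ i, 0 < i → i < r → ∀ v, (A ^ i * B) v = v → A v = v) :
    ∀ w, B (A w - w) = A w - w := by
  intro w
  have hneg : ∀ v : V, -v = v := fun v => by rw [neg_eq_iff_add_eq_zero, hV]
  rcases hr.eq_two_or_odd' with rfl | hodd
  · have hAA : ∀ v, A (A v) = v := fun v => by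
      have := DFunLike.congr_fun hA v
      rw [pow_two] at this
      exact this
    have hBB : ∀ v, B (B v) = v := fun v => by
      have := DFunLike.congr_fun hB v
      rw [pow_two] at this
      exact this
    have hcom : ∀ v, A (B v) = B (A v) := fun v => DFunLike.congr_fun hAB v
    have h1 := h 1 Nat.one_pos Nat.one_lt_two (w + A (B w)) (by
      rw [pow_one]
      show A (B (w + A (B w))) = _
      rw [map_add, map_add, ← hcom (B w), hAA, hBB, add_comm])
    rw [map_add, hAA] at h1
    -- A w + B w = w + A (B w)
    rw [map_sub, ← hcom, sub_eq_add_neg, sub_eq_add_neg, hneg, hneg]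
    calc A (B w) + B w = (w + A (B w)) + (w + B w) := by
          rw [show (w + A (B w)) + (w + B w) = (w + w) + (A (B w) + B w) by abel, hV, zero_add]
      _ = (A w + B w) + (w + B w) := by rw [h1]
      _ = A w + w + (B w + B w) := by abel
      _ = A w + w := by rw [hV, add_zero]
  · have hrpos : 0 < r := hr.pos
    set z := A w - w with hz
    set SA : AddMonoid.End V := ∑ t ∈ Finset.range r, A ^ t with hSA
    have hSz : SA z = 0 := by
      have h1 : SA * (A - 1) = 0 := by rw [hSA, geom_sum_mul, hA, sub_self]
      exact DFunLike.congr_fun h1 w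
    -- fixed vectors of `A` killed by `SA` vanish
    have hkill : ∀ v, A v = v → SA v = 0 → v = 0 := by
      intro v hv h0
      have hp : ∀ t, (A ^ t) v = v := by
        intro t
        induction t with
        | zero => simp
        | succ t ih => rw [pow_succ]; show (A ^ t) (A v) = v; rw [hv, ih]
      have h1 : SA v = r • v := by
        rw [hSA, esum]
        simp [hp]
      obtain ⟨k, hk⟩ := hodd
      rw [h0, hk, add_smul, one_smul, mul_smul, two_nsmul, hV, zero_add] at h1
      exact h1.symm
    have hci : ∀ i, Commute SA (A ^ i) := fun i =>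
      Commute.sum_left _ _ _ fun t _ => Commute.pow_pow_self A t i
    have hcb : Commute SA B := Commute.sum_left _ _ _ fun t _ => hAB.pow_left t
    set u : ℕ → AddMonoid.End V := fun i => ∑ t ∈ Finset.range r, (A ^ i * B) ^ t with hu
    have hu0 : ∀ i, 0 < i → i < r → u i z = 0 := by
      intro i hi hir
      have hpow : (A ^ i * B) ^ r = 1 := by
        rw [(hAB.pow_left i).mul_pow, ← pow_mul, mul_comm, pow_mul, hA, one_pow, hB, one_mul]
      refine hkill _ (h i hi hir _ (DFunLike.congr_fun (geom_fix hpow) z)) ?_
      have hc : Commute SA (u i) :=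
        Commute.sum_right _ _ _ fun t _ => ((hci i).mul_right hcb).pow_right t
      have := DFunLike.congr_fun hc z
      show SA (u i z) = 0
      rw [show SA (u i z) = u i (SA z) from this, hSz, map_zero]
    have hsum : (∑ i ∈ Finset.range r, u i z) = u 0 z := by
      refine Finset.sum_eq_single_of_mem 0 (Finset.mem_range.2 hrpos) fun i hi hne => ?_
      exact hu0 i (Nat.pos_of_ne_zero hne) (Finset.mem_range.1 hi)
    have hsum' : (∑ i ∈ Finset.range r, u i z) = z := by
      have h1 : ∀ i, u i z = ∑ t ∈ Finset.range r, (B ^ t) (((A ^ t) ^ i) z) := fun i => by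
        rw [hu, esum]
        refine Finset.sum_congr rfl fun t _ => ?_
        rw [(hAB.pow_left i).mul_pow, ← pow_mul, mul_comm i t, pow_mul]
        exact DFunLike.congr_fun ((hAB.pow_left t).pow_pow i t) z
      simp_rw [h1]
      rw [Finset.sum_comm]
      simp_rw [← map_sum]
      rw [Finset.sum_eq_single_of_mem 0 (Finset.mem_range.2 hrpos)]
      · obtain ⟨k, hk⟩ := hodd
        simp [hk, add_smul, mul_smul, two_nsmul, hV]
      · intro t ht hne
        have htr : r.Coprime t := hr.coprime_iff_not_dvd.2
          (Nat.not_dvd_of_pos_of_lt (Nat.pos_of_ne_zero hne) (Finset.mem_range.1 ht))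
        obtain ⟨s, hs⟩ := Nat.exists_mul_mod_eq_one_of_coprime htr.symm hr.one_lt
        set y := ∑ i ∈ Finset.range r, ((A ^ t) ^ i) z with hy
        have hy' : y = (∑ i ∈ Finset.range r, (A ^ t) ^ i) z := by
          rw [hy, esum]
        have hfixt : (A ^ t) y = y := by
          rw [hy']
          exact DFunLike.congr_fun (geom_fix (x := A ^ t)
            (by rw [← pow_mul, mul_comm, pow_mul, hA, one_pow])) z
        have hfix : A y = y := by
          have h2 : ∀ m, ((A ^ t) ^ m) y = y := by
            intro m
            induction m with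
            | zero => simp
            | succ m ih => rw [pow_succ]; show ((A ^ t) ^ m) ((A ^ t) y) = y; rw [hfixt, ih]
          have h3 := h2 s
          rw [← pow_mul, ← Nat.mod_add_div (t * s) r, hs.2, pow_add, pow_mul, hA, one_pow,
            mul_one, pow_one] at h3
          exact h3
        have hy0 : SA y = 0 := by
          rw [hy']
          have hc : Commute SA (∑ i ∈ Finset.range r, (A ^ t) ^ i) :=
            Commute.sum_right _ _ _ fun i _ => (hci t).pow_right i
          have := DFunLike.congr_fun hc z
          rw [show SA ((∑ i ∈ Finset.range r, (A ^ t) ^ i) z) = _ from this]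
          show (∑ i ∈ Finset.range r, (A ^ t) ^ i) (SA z) = 0
          rw [hSz, map_zero]
        rw [hkill y hfix hy0, map_zero]
    have hB0 : B * u 0 = u 0 := by
      simp only [hu, pow_zero, one_mul]
      exact geom_fix hB
    have hfin := DFunLike.congr_fun hB0 z
    change B (u 0 z) = u 0 z at hfin
    rwa [← hsum, hsum'] at hfin

end H80.XA
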