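import Cfsg.Agent.H80.XA.Basic
import Cfsg.Agent.H80.XA.Mix
import Cfsg.Agent.H2.FrobeniusKernel

/-!
The minimal normal subgroup of `H` is simple: otherwise mixing two factors gives a Frobenius group.
-/

set_option autoImplicit false
set_option linter.unusedSectionVars false
set_option linter.style.haveILetI false

namespace H80.XA

open Subgroup
open scoped commutatorElement
open H70 (cj)

variable {G : Type*} [Group G]

/-- `T` is a minimal normal subgroup of `M`. -/
structure MinIn (M T : Subgroup G) : Prop where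
  le : T ≤ M
  ne : T ≠ ⊥
  nm : M ≤ normalizer (T : Set G)
  min : ∀ J : Subgroup G, J ≤ T → M ≤ normalizer (J : Set G) → J = ⊥ ∨ J = T

namespace Hyp

variable {H N M T : Subgroup G} (h : Hyp H N)
include h

theorem minIn_conj (hMn : H ≤ normalizer (M : Set G)) {g : G} (hg : g ∈ H) (hT : MinIn M T) :
    MinIn M (cj g T) := by
  have hM : cj g M = M := H70.cj_eq_self_iff.2 (hMn hg)
  refine ⟨(H70.cj_mono g hT.le).trans hM.le, ?_, ?_, ?_⟩
  · intro h0
    apply hT.ne
    rw [H70.cj_eq_iff] at h0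
    rw [h0, H70.cj, Subgroup.map_bot]
  · refine nm_of fun m hm x hx => ?_
    rw [H70.mem_cj] at hx ⊢
    have h1 : g⁻¹ * m * g ∈ M := by rwa [← H70.mem_cj, hM]
    have := conj_mem hT.nm h1 hx
    simpa [mul_assoc] using this
  · intro J hJ hJn
    have h1 : cj g⁻¹ J ≤ T := by
      have := H70.cj_mono g⁻¹ hJ
      rwa [H70.cj_cj, inv_mul_cancel, H70.cj_one] at this
    have h2 : M ≤ normalizer ((cj g⁻¹ J : Subgroup G) : Set G) := by
      refine nm_of fun m hm x hx => ?_
      rw [H70.mem_cj] at hx ⊢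
      have h3 : g * m * g⁻¹ ∈ M := conj_mem hMn hg hm
      have := conj_mem hJn h3 hx
      simpa [mul_assoc] using this
    rcases hT.min _ h1 h2 with e | e
    · left; rw [H70.cj_eq_iff] at e; rw [e, H70.cj, Subgroup.map_bot]
    · right; rw [← e, H70.cj_cj, mul_inv_cancel, H70.cj_one]

theorem minIn_commute {T' : Subgroup G} (hT : MinIn M T) (hT' : MinIn M T') (hne : T' ≠ T) :
    T' ≤ centralizer (T : Set G) := by
  have hd : T ⊓ T' = ⊥ := by
    rcases hT.min (T ⊓ T') inf_le_left (nm_inf hT.nm hT'.nm) with e | e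
    · exact e
    · rcases hT'.min (T ⊓ T') inf_le_right (nm_inf hT.nm hT'.nm) with e' | e'
      · exact e'
      · exact absurd (e'.symm.trans e) hne
  intro a ha
  refine mem_centralizer_iff.2 fun b hb => ?_
  have hb' : b ∈ T := hb
  have e1 : ⁅b, a⁆ ∈ T := by
    rw [commutatorElement_def]
    have := mul_mem hb' (conj_mem hT.nm (hT'.le ha) (inv_mem hb'))
    simpa [mul_assoc] using this
  have e2 : ⁅b, a⁆ ∈ T' := by
    rw [commutatorElement_def]
    exact mul_mem (conj_mem hT'.nm (hT.le hb') ha) (inv_mem ha)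
  have h1 : ⁅b, a⁆ ∈ T ⊓ T' := Subgroup.mem_inf.2 ⟨e1, e2⟩
  rw [hd, mem_bot] at h1
  exact commutatorElement_eq_one_iff_mul_comm.1 h1

section Min

variable [Finite G] (hMH : M ≤ H) (hMne : M ≠ ⊥) (hMn : H ≤ normalizer (M : Set G))
  (hMmin : ∀ K : Subgroup G, K ≤ M → H ≤ normalizer (K : Set G) → K = ⊥ ∨ K = M)
include hMH hMne hMn hMmin

omit hMmin in
theorem M_nonabelian : ¬ ∀ a ∈ M, ∀ b ∈ M, a * b = b * a := fun hc =>
  hMne (h.abelian_normal hMH hMn hc)

theorem M_even : 2 ∣ Nat.card M :=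
  even_of_min hMn hMmin hMne (h.M_nonabelian hMH hMne hMn)

/-- `C_H(M) = 1`. -/
theorem centralizer_bot : H ⊓ centralizer (M : Set G) = ⊥ := by
  haveI : Fact (Nat.Prime 2) := ⟨Nat.prime_two⟩
  obtain ⟨t, ht⟩ := exists_prime_orderOf_dvd_card' (G := ↥M) 2 (h.M_even hMH hMne hMn hMmin)
  have htt : (t : G) * t = 1 := by
    rw [← pow_two, ← Subgroup.coe_pow, ← ht, pow_orderOf_eq_one, Subgroup.coe_one]
  obtain ⟨v, hv, hv1, htv⟩ := h.inv_fix (hMH t.2) htt
  by_contra hE
  set E := H ⊓ centralizer (M : Set G) with hEdef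
  have hEn : H ≤ normalizer (E : Set G) := nm_inf le_normalizer (nm_centralizer hMn)
  rcases h.max v hv hv1 (st H v ⊔ E) (sup_le inf_le_left inf_le_left) le_sup_left with e | e
  · exact hE (h.core_free hv hv1 (e ▸ le_sup_right) hEn)
  · have hD : M ⊓ st H v = ⊥ := by
      refine h.core_free hv hv1 inf_le_right ?_
      refine e.ge.trans (sup_le (nm_inf (inf_le_left.trans hMn) le_normalizer) ?_)
      refine nm_of fun c hc d hd => ?_
      rw [← mem_centralizer_iff.1 hc.2 d hd.1, mul_inv_cancel_right]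
      exact hd
    have : (t : G) ∈ M ⊓ st H v := ⟨t.2, htv⟩
    rw [hD, mem_bot, OneMemClass.coe_eq_one] at this
    rw [this, orderOf_one] at ht
    omega

variable (hT : MinIn M T)
include hT

/-- A factor lies in no stabiliser. -/
theorem factor_not_le {v : G} (hv : v ∈ N) (hv1 : v ≠ 1) : ¬ T ≤ st H v := by
  intro hTv
  set J : Subgroup G := ⨆ g : ↥H, cj (g : G) T with hJ
  have hJn : H ≤ normalizer (J : Set G) := by
    intro x hx
    refine H70.cj_eq_self_iff.1 (H70.eq_of_cj_le ?_)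
    rw [hJ, H70.cj, Subgroup.map_iSup]
    refine iSup_le fun g => ?_
    show cj x (cj (g : G) T) ≤ _
    rw [H70.cj_cj]
    exact le_iSup (fun g : ↥H => cj (g : G) T) (⟨x * g, mul_mem hx g.2⟩ : ↥H)
  have hJne : J ≠ ⊥ := fun h0 => hT.ne (by
    have := le_iSup (fun g : ↥H => cj (g : G) T) (1 : ↥H)
    rw [← hJ, h0] at this
    simpa using this)
  refine hJne (h.core_free hv hv1 ?_ hJn)
  have hsup : st H v ⊔ M = H := by
    rcases h.max v hv hv1 (st H v ⊔ M) (sup_le inf_le_left hMH) le_sup_left with e | e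
    · exact absurd (h.core_free hv hv1 (e ▸ le_sup_right) hMn) hMne
    · exact e
  refine iSup_le fun g => ?_
  have hg' : (g : G) ∈ ((st H v ⊔ M : Subgroup G) : Set G) := hsup.ge g.2
  rw [coe_mul_of_left_le_normalizer_right _ _ (inf_le_left.trans hMn)] at hg'
  obtain ⟨c, hc, m, hm, hcm⟩ := hg'
  rw [← hcm, ← H70.cj_cj, H70.cj_eq_self_iff.2 (hT.nm hm)]
  exact (H70.cj_mono c hTv).trans (H70.cj_of_mem hc).le

omit hMne hMmin in
theorem cj_sup_centralizer {c : G} (hc : c ∈ H) (D X : Subgroup G) :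
    cj c (D ⊔ M ⊓ centralizer (X : Set G)) =
      cj c D ⊔ M ⊓ centralizer ((cj c X : Subgroup G) : Set G) := by
  rw [H70.cj, Subgroup.map_sup]
  congr 1
  ext x
  show x ∈ cj c (M ⊓ centralizer (X : Set G)) ↔ _
  rw [H70.mem_cj, Subgroup.mem_inf, Subgroup.mem_inf, mem_centralizer_iff, mem_centralizer_iff]
  have h1 : c⁻¹ * x * c ∈ M ↔ x ∈ M := by
    rw [← H70.mem_cj, H70.cj_eq_self_iff.2 (hMn hc)]
  rw [h1]
  refine and_congr_right fun _ => ⟨fun hx y hy => ?_, fun hx y hy => ?_⟩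
  · have h2 := hx _ (H70.mem_cj.1 hy)
    calc y * x = c * ((c⁻¹ * y * c) * (c⁻¹ * x * c)) * c⁻¹ := by group
      _ = c * ((c⁻¹ * x * c) * (c⁻¹ * y * c)) * c⁻¹ := by rw [h2]
      _ = x * y := by group
  · have h2 := hx (c * y * c⁻¹) (H70.mem_cj.2 (by simpa [mul_assoc] using hy))
    calc y * (c⁻¹ * x * c) = c⁻¹ * ((c * y * c⁻¹) * x) * c := by group
      _ = c⁻¹ * (x * (c * y * c⁻¹)) * c := by rw [h2]
      _ = c⁻¹ * x * c * y := by group

/-- The product property of stabilisers meeting a factor. -/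
theorem product {v y a b : G} (hv : v ∈ N) (hv1 : v ≠ 1) (hy : y ∈ T) (hy1 : y ≠ 1)
    (hyv : y ∈ st H v) (ha : a ∈ T) (hb : b ∈ M ⊓ centralizer (T : Set G))
    (hab : a * b ∈ st H v) : a ∈ st H v := by
  set D := M ⊓ st H v with hD
  have hproper : D ⊔ M ⊓ centralizer (T : Set G) ≠ M := by
    intro e
    rcases hT.min (D ⊓ T) inf_le_right (e.ge.trans (sup_le (nm_inf le_normalizer
        (inf_le_left.trans hT.nm)) (nm_of fun c hc d hd => by
          rw [← mem_centralizer_iff.1 hc.2 d hd.2, mul_inv_cancel_right]; exact hd))) with e' | e'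
    · have : y ∈ D ⊓ T := ⟨⟨hT.le hy, hyv⟩, hy⟩
      rw [e', mem_bot] at this
      exact hy1 this
    · exact h.factor_not_le hMH hMne hMn hMmin hT hv hv1 fun x hx => (e'.ge hx).1.2
  set L : Subgroup G := ⨅ g : ↥H, D ⊔ M ⊓ centralizer ((cj (g : G) T : Subgroup G) : Set G) with hL
  have hLM : L ≤ D ⊔ M ⊓ centralizer (T : Set G) := by
    refine (iInf_le _ (1 : ↥H)).trans ?_
    simp
  have hLM' : L ≤ M := hLM.trans (sup_le inf_le_left inf_le_left)
  have hLn : st H v ≤ normalizer (L : Set G) := by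
    intro c hc
    refine H70.cj_eq_self_iff.1 (H70.eq_of_cj_le (le_iInf fun g => ?_))
    refine (H70.cj_mono c (iInf_le _ (⟨c⁻¹ * g, mul_mem (inv_mem hc.1) g.2⟩ : ↥H))).trans ?_
    rw [h.cj_sup_centralizer hMH hMn hT hc.1, H70.cj_cj, mul_inv_cancel_left]
    refine sup_le_sup_right ?_ _
    rw [hD]
    exact (le_inf ((H70.cj_mono c inf_le_left).trans (H70.cj_eq_self_iff.2 (hMn hc.1)).le)
      ((H70.cj_mono c inf_le_right).trans (H70.cj_of_mem hc).le))
  have hDL : D ≤ L := le_iInf fun g => le_sup_left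
  have hLv : L ≤ st H v := by
    rcases h.max v hv hv1 (st H v ⊔ L) (sup_le inf_le_left (hLM'.trans hMH)) le_sup_left with e | e
    · exact e ▸ le_sup_right
    · exfalso
      apply hproper
      refine le_antisymm (sup_le inf_le_left inf_le_left) fun m hm => hLM ?_
      have hm' : m ∈ ((st H v ⊔ L : Subgroup G) : Set G) := e.ge (hMH hm)
      rw [coe_mul_of_left_le_normalizer_right _ _ hLn] at hm'
      obtain ⟨c, hc, l, hl, rfl⟩ := hm'
      exact mul_mem (hDL ⟨by simpa using mul_mem hm (inv_mem (hLM' hl)), hc⟩) hl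
  refine hLv (mem_iInf.2 fun g => ?_)
  by_cases hgT : cj (g : G) T = T
  · rw [hgT, show a = a * b * b⁻¹ by group]
    exact mul_mem (mem_sup_left ⟨mul_mem (hT.le ha) hb.1, hab⟩) (mem_sup_right (inv_mem hb))
  · refine mem_sup_right ⟨hT.le ha, ?_⟩
    exact h.minIn_commute (h.minIn_conj hMn g.2 hT) hT (fun e => hgT e.symm) ha

end Min

end Hyp

end H80.XA
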