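import Cfsg.Agent.H80.XA.Factor

/-!
`H` is almost simple.
-/

set_option autoImplicit false
set_option linter.unusedSectionVars false
set_option linter.style.haveILetI false

namespace H80.XA

open Subgroup
open H70 (cj)

variable {G : Type*} [Group G]

/-- Conjugation by an element normalising `X` as an additive endomorphism. -/
def act (X : Subgroup G) (a : G) (ha : a ∈ normalizer (X : Set G)) : AddMonoid.End (Additive ↥X) :=
  (MonoidHom.mk' (fun x : ↥X => (⟨a * x * a⁻¹, (mem_normalizer_iff.1 ha x).1 x.2⟩ : ↥X))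
    fun x y => Subtype.ext (show a * (x * y) * a⁻¹ = a * x * a⁻¹ * (a * y * a⁻¹) by group)).toAdditive

theorem act_val (X : Subgroup G) (a : G) (ha : a ∈ normalizer (X : Set G)) (x : Additive ↥X) :
    ((act X a ha x).toMul : G) = a * (x.toMul : G) * a⁻¹ := rfl

theorem act_pow (X : Subgroup G) (a : G) (ha : a ∈ normalizer (X : Set G)) :
    ∀ (n : ℕ) (x : Additive ↥X), (((act X a ha) ^ n) x).toMul.1 = a ^ n * x.toMul.1 * (a ^ n)⁻¹ := by
  intro n
  induction n with
  | zero => intro x; simp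
  | succ n ih =>
    intro x
    rw [pow_succ]
    show (((act X a ha) ^ n) (act X a ha x)).toMul.1 = _
    rw [ih, act_val, pow_succ]
    group

namespace Hyp

variable {H N : Subgroup G} (h : Hyp H N)
include h

section Min

variable [Finite G] {M T T' : Subgroup G} (hMH : M ≤ H) (hMne : M ≠ ⊥)
  (hMn : H ≤ normalizer (M : Set G))
  (hMmin : ∀ K : Subgroup G, K ≤ M → H ≤ normalizer (K : Set G) → K = ⊥ ∨ K = M)
  (hT : MinIn M T) (hT' : MinIn M T') (hne : T' ≠ T) (hcard : Nat.card T' = Nat.card T)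
  (hgen : M ≤ T ⊔ M ⊓ centralizer (T : Set G))
include hMH hMne hMn hMmin hT hT' hne hcard hgen

theorem mixing_contra {y a : G} {r : ℕ} (hr : r.Prime) (hy : y ∈ T) (hy1 : y ≠ 1) (ha : a ∈ T)
    (hax : ∀ x ∈ N ⊓ centralizer ({y} : Set G), a * x * a⁻¹ ∈ N ⊓ centralizer ({y} : Set G))
    (har : ∀ x ∈ N ⊓ centralizer ({y} : Set G), a ^ r * x = x * a ^ r) (hrT : r ∣ Nat.card T) :
    ∀ x ∈ N ⊓ centralizer ({y} : Set G), a * x = x * a := by
  intro x₀ hx₀
  set X := N ⊓ centralizer ({y} : Set G) with hX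
  have hXa : a ∈ normalizer (X : Set G) :=
    H70.cj_eq_self_iff.1 (H70.eq_of_cj_le (fun x hx => by
      obtain ⟨w, hw, rfl⟩ := hx
      exact hax w hw))
  haveI : IsMulCommutative ↥X := ⟨⟨fun u w => Subtype.ext (h.comm u u.2.1 w w.2.1)⟩⟩
  have hB : ∀ b ∈ T', orderOf b = r →
      b * ((a * x₀ * a⁻¹) * x₀⁻¹) = ((a * x₀ * a⁻¹) * x₀⁻¹) * b := by
    intro b hb hbr
    have hcom : ∀ c ∈ T, c * b = b * c := fun c hc =>
      mem_centralizer_iff.1 (h.minIn_commute hT hT' hne hb) c hc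
    have hXb : b ∈ normalizer (X : Set G) := by
      rw [mem_normalizer_iff]
      intro x
      rw [hX, Subgroup.mem_inf, Subgroup.mem_inf, mem_centralizer_singleton_iff,
        mem_centralizer_singleton_iff]
      refine and_congr ⟨fun hx => h.norm b (hMH (hT'.le hb)) x hx, fun hx => ?_⟩ ?_
      · have := h.norm b⁻¹ (inv_mem (hMH (hT'.le hb))) _ hx
        simpa [mul_assoc] using this
      · have e : y = b * y * b⁻¹ := by rw [← hcom y hy, mul_inv_cancel_right]
        constructor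
        · intro hx
          calc b * x * b⁻¹ * y = b * x * b⁻¹ * (b * y * b⁻¹) := by rw [← e]
            _ = b * (x * y) * b⁻¹ := by group
            _ = b * (y * x) * b⁻¹ := by rw [hx]
            _ = (b * y * b⁻¹) * (b * x * b⁻¹) := by group
            _ = y * (b * x * b⁻¹) := by rw [← e]
        · intro hx
          rw [e] at hx
          have e2 : b * (x * y) * b⁻¹ = b * (y * x) * b⁻¹ := by
            calc b * (x * y) * b⁻¹ = b * x * b⁻¹ * (b * y * b⁻¹) := by group
              _ = b * y * b⁻¹ * (b * x * b⁻¹) := hx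
              _ = b * (y * x) * b⁻¹ := by group
          exact mul_left_cancel (mul_right_cancel e2)
    letI : CommGroup ↥X := H2.commGroupOfComm X
    have key := mix (V := Additive ↥X)
      (fun v => by
        show (v.toMul * v.toMul : ↥X) = 1
        exact Subtype.ext (h.sq _ v.toMul.2.1)) hr
      (act X a hXa) (act X b hXb) ?_ ?_ ?_ ?_ (Additive.ofMul ⟨x₀, hx₀⟩)
    · have k2 := congrArg (fun w : Additive ↥X => (w.toMul : G)) key
      simp only [act_val, toMul_sub, toMul_ofMul, Subgroup.coe_div, div_eq_mul_inv] at k2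
      exact mul_inv_eq_iff_eq_mul.1 k2
    · refine DFunLike.ext _ _ fun v => ?_
      apply Additive.toMul.injective
      apply Subtype.ext
      show a * (b * v.toMul.1 * b⁻¹) * a⁻¹ = b * (a * v.toMul.1 * a⁻¹) * b⁻¹
      rw [show a * (b * v.toMul.1 * b⁻¹) * a⁻¹ = (a * b) * v.toMul.1 * (a * b)⁻¹ by group,
        hcom a ha]
      group
    · refine DFunLike.ext _ _ fun v => ?_
      apply Additive.toMul.injective
      apply Subtype.ext
      rw [act_pow, har _ v.toMul.2, mul_inv_cancel_right]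
      rfl
    · refine DFunLike.ext _ _ fun v => ?_
      apply Additive.toMul.injective
      apply Subtype.ext
      rw [act_pow, ← hbr, pow_orderOf_eq_one, inv_one, one_mul, mul_one]
      rfl
    · intro i hi hir v hv
      have hvG := congrArg (fun w : Additive ↥X => (w.toMul : G)) hv
      change ((((act X a hXa) ^ i) (act X b hXb v)).toMul : G) = v.toMul.1 at hvG
      rw [act_pow, act_val] at hvG
      set u : G := v.toMul.1 with hu
      have huX : u ∈ X := v.toMul.2
      apply Additive.toMul.injective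
      apply Subtype.ext
      show a * u * a⁻¹ = u
      by_cases hu1 : u = 1
      · rw [hu1]; simp
      have hab : a ^ i * b ∈ st H u := by
        refine mem_st.2 ⟨mul_mem (pow_mem (hMH (hT.le ha)) i) (hMH (hT'.le hb)),
          mul_inv_eq_iff_eq_mul.1 ?_⟩
        rw [show a ^ i * b * u * (a ^ i * b)⁻¹ = a ^ i * (b * u * b⁻¹) * (a ^ i)⁻¹ by group]
        exact hvG
      have hai : a ^ i ∈ st H u := h.product hMH hMne hMn hMmin hT huX.1 hu1 hy hy1
        (mem_st.2 ⟨hMH (hT.le hy), (mem_centralizer_singleton_iff.1 huX.2).symm⟩) (pow_mem ha i)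
        (Subgroup.mem_inf.2 ⟨hT'.le hb, h.minIn_commute hT hT' hne hb⟩) hab
      have hgen' : a ∈ st H u := by
        obtain ⟨s, hs⟩ := Nat.exists_mul_mod_eq_one_of_coprime
          (hr.coprime_iff_not_dvd.2 (Nat.not_dvd_of_pos_of_lt hi hir)).symm hr.one_lt
        have h1 : a ^ (i * s) ∈ st H u := pow_mul a i s ▸ pow_mem hai s
        have har' : (a ^ r) ^ (i * s / r) ∈ st H u :=
          pow_mem (mem_st.2 ⟨pow_mem (hMH (hT.le ha)) r, har u huX⟩) _
        rw [← Nat.mod_add_div (i * s) r, hs.2, pow_add, pow_one, pow_mul] at h1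
        exact (mul_mem_cancel_right har').1 h1
      exact mul_inv_eq_iff_eq_mul.2 (mem_st.1 hgen').2
  set z := (a * x₀ * a⁻¹) * x₀⁻¹ with hz
  have hzN : z ∈ N := mul_mem (hax x₀ hx₀).1 (inv_mem hx₀.1)
  suffices hz1 : z = 1 by
    rw [hz, mul_inv_eq_one, mul_inv_eq_iff_eq_mul] at hz1
    exact hz1
  by_contra hz1
  set S : Set G := {b | b ∈ T' ∧ orderOf b = r} with hS
  have hSn : M ≤ normalizer ((closure S : Subgroup G) : Set G) := by
    refine nm_of fun m hm x hx => ?_
    have h1 : cj m (closure S) ≤ closure S := by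
      rw [H70.cj, MonoidHom.map_closure]
      refine closure_mono ?_
      rintro _ ⟨b, ⟨hb, hbr⟩, rfl⟩
      exact ⟨conj_mem hT'.nm hm hb, by
        rw [orderOf_injective (MulAut.conj m).toMonoidHom (MulAut.conj m).injective, hbr]⟩
    exact h1 ⟨x, hx, rfl⟩
  haveI : Fact r.Prime := ⟨hr⟩
  obtain ⟨b₀, hb₀⟩ := exists_prime_orderOf_dvd_card' (G := ↥T') r (hcard ▸ hrT)
  rw [← Subgroup.orderOf_coe] at hb₀
  rcases hT'.min (closure S) (closure_le _ |>.2 fun b hb => hb.1) hSn with e | e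
  · have h0 : (b₀ : G) ∈ (⊥ : Subgroup G) := e ▸ subset_closure ⟨b₀.2, hb₀⟩
    rw [mem_bot] at h0
    rw [h0, orderOf_one] at hb₀
    exact hr.ne_one hb₀.symm
  · refine h.factor_not_le hMH hMne hMn hMmin hT' hzN hz1 ?_
    rw [← e, closure_le]
    exact fun b hb => mem_st.2 ⟨hMH (hT'.le hb.1), hB b hb.1 hb.2⟩

theorem false_of_two_factors : False := by
  have hnaT : ¬ ∀ u ∈ T, ∀ w ∈ T, u * w = w * u := by
    intro hc
    refine hT.ne (eq_bot_iff.2 fun u hu => ?_)
    rw [← h.centralizer_bot hMH hMne hMn hMmin]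
    refine ⟨hMH (hT.le hu), mem_centralizer_iff.2 fun m hm => ?_⟩
    have hle : T ⊔ M ⊓ centralizer (T : Set G) ≤ centralizer ({u} : Set G) :=
      sup_le (fun w hw => mem_centralizer_singleton_iff.2 (hc w hw u hu))
        fun w hw => mem_centralizer_singleton_iff.2 (mem_centralizer_iff.1 hw.2 u hu).symm
    exact mem_centralizer_singleton_iff.1 (hle (hgen hm))
  have hTeven : 2 ∣ Nat.card T := even_of_min hT.nm hT.min hT.ne hnaT
  haveI : Fact (Nat.Prime 2) := ⟨Nat.prime_two⟩
  obtain ⟨t, ht⟩ := exists_prime_orderOf_dvd_card' (G := ↥T) 2 hTeven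
  have htt : (t : G) * t = 1 := by
    rw [← pow_two, ← Subgroup.coe_pow, ← ht, pow_orderOf_eq_one, Subgroup.coe_one]
  have ht1 : (t : G) ≠ 1 := fun h0 => by rw [OneMemClass.coe_eq_one] at h0; simp [h0] at ht
  obtain ⟨v, hv, hv1, htv⟩ := h.inv_fix (hMH (hT.le t.2)) htt
  set XX : G → Subgroup G := fun g => N ⊓ centralizer ({g} : Set G) with hXX
  obtain ⟨y, ⟨hy, hy1⟩, hmax⟩ := (Set.toFinite {g : G | g ∈ T ∧ g ≠ 1}).exists_maximalFor
    (fun g => Nat.card (XX g)) _ ⟨t, t.2, ht1⟩
  set X := XX y with hX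
  have hXne : X ≠ ⊥ := by
    intro h0
    have h1 : v ∈ XX t := ⟨hv, mem_centralizer_singleton_iff.2 (mem_st.1 htv).2.symm⟩
    have h2 : XX t ≠ ⊥ := fun e => hv1 (mem_bot.1 (e ▸ h1))
    have h3 : 1 < Nat.card (XX (t : G)) := by
      by_contra hlt
      exact h2 (Subgroup.eq_bot_of_card_le _ (not_lt.1 hlt))
    have h4 : Nat.card X = 1 := by rw [h0, Subgroup.card_bot]
    have h5 : Nat.card (XX (t : G)) ≤ Nat.card X :=
      hmax ⟨t.2, ht1⟩ (by show Nat.card X ≤ Nat.card (XX (t : G)); omega)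
    omega
  set K := T ⊓ centralizer (X : Set G) with hK
  have hfix : ∀ k ∈ K, k ≠ 1 → XX k = X := by
    intro k hk hk1
    have hle : X ≤ XX k := fun x hx =>
      ⟨hx.1, mem_centralizer_singleton_iff.2 (mem_centralizer_iff.1 hk.2 x hx)⟩
    have := hmax ⟨hk.1, hk1⟩ (Subgroup.card_le_of_le hle)
    exact (Subgroup.eq_of_le_of_card_ge hle this).symm
  have hyK : y ∈ K := ⟨hy, mem_centralizer_iff.2 fun x hx =>
    (mem_centralizer_singleton_iff.1 hx.2)⟩
  have hstab : ∀ g ∈ T, (∀ x ∈ X, g * x * g⁻¹ ∈ X) → g ∈ K := by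
    intro g hg hgX
    by_contra hgK
    have hex : ∃ n, 0 < n ∧ g ^ n ∈ K := ⟨orderOf g, orderOf_pos g, by
      rw [pow_orderOf_eq_one]; exact one_mem K⟩
    classical
    set n := Nat.find hex with hn
    obtain ⟨hn0, hnK⟩ := Nat.find_spec hex
    have hn1 : n ≠ 1 := fun e => hgK (by rw [← pow_one g, ← e]; exact hnK)
    obtain ⟨r, hr, hrn⟩ := Nat.exists_prime_and_dvd hn1
    obtain ⟨m, hm⟩ := hrn
    have hm0 : 0 < m := pos_of_mul_pos_right (hm ▸ hn0) (Nat.zero_le r)
    have ha : g ^ m ∉ K := fun hc => Nat.find_min hex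
      (show m < n by rw [hm]; exact lt_mul_of_one_lt_left hm0 hr.one_lt) ⟨hm0, hc⟩
    have hpowX : ∀ (j : ℕ) (x : G), x ∈ X → g ^ j * x * (g ^ j)⁻¹ ∈ X := by
      intro j
      induction j with
      | zero => intro x hx; simpa using hx
      | succ j ih =>
        intro x hx
        have := ih _ (hgX x hx)
        simpa [pow_succ, mul_assoc] using this
    have hrT : r ∣ Nat.card T := by
      have h1 : n ∣ orderOf g := by
        refine Nat.dvd_of_mod_eq_zero (by_contra fun h0 => ?_)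
        refine Nat.find_min hex (Nat.mod_lt (orderOf g) hn0) ⟨Nat.pos_of_ne_zero h0, ?_⟩
        have h3 : g ^ orderOf g ∈ K := by rw [pow_orderOf_eq_one]; exact one_mem K
        rw [← Nat.mod_add_div (orderOf g) n, pow_add, pow_mul] at h3
        exact (mul_mem_cancel_right (pow_mem hnK _)).1 h3
      refine (dvd_trans (Dvd.intro m hm.symm) h1).trans ?_
      rw [show orderOf g = orderOf (⟨g, hg⟩ : ↥T) from Subgroup.orderOf_coe (⟨g, hg⟩ : ↥T)]
      exact orderOf_dvd_natCard _
    have hnK' : (g ^ m) ^ r ∈ K := by rw [← pow_mul, mul_comm, ← hm]; exact hnK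
    apply ha
    refine ⟨pow_mem hg m, mem_centralizer_iff.2 fun x hx => ?_⟩
    exact (h.mixing_contra hMH hMne hMn hMmin hT hT' hne hcard hgen hr hy hy1 (pow_mem hg m)
      (hpowX m) (fun x hx => (mem_centralizer_iff.1 hnK'.2 x hx).symm) hrT x hx).symm
  -- `K` is a Frobenius complement in `T`
  have hKT : K ≤ T := inf_le_left
  set K' := K.subgroupOf T with hK'
  have hFC : Cfsg.IsFrobeniusComplement K' := by
    refine ⟨fun e => hy1 ?_, fun e => ?_, fun g hg => ?_⟩
    · have : (⟨y, hy⟩ : ↥T) ∈ K' := hyK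
      rw [e, mem_bot] at this
      exact congrArg Subtype.val this
    · obtain ⟨x, hx, hx1⟩ := X.bot_or_exists_ne_one.resolve_left hXne
      refine h.factor_not_le hMH hMne hMn hMmin hT hx.1 hx1 fun u hu => ?_
      have hu' : (⟨u, hu⟩ : ↥T) ∈ K' := by rw [e]; exact mem_top _
      exact mem_st.2 ⟨hMH (hT.le hu), (mem_centralizer_iff.1 hu'.2 x hx).symm⟩
    · rw [eq_bot_iff]
      intro k hk
      rw [mem_bot]
      by_contra hk1
      apply hg
      have hkK : (k : G) ∈ K := hk.1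
      have hk2 : (g : G)⁻¹ * k * g ∈ K := by
        have := H2.mem_conj_smul.1 hk.2
        simpa [hK', mem_subgroupOf, mul_assoc] using this
      set k' := (g : G)⁻¹ * k * g with hk'
      have hk'1 : k' ≠ 1 := fun e => hk1 (Subtype.ext (by
        have : (k : G) = g * k' * (g : G)⁻¹ := by rw [hk']; group
        rw [this, e]; simp))
      have hkk : (k : G) ≠ 1 := fun e => hk1 (Subtype.ext e)
      refine hstab g g.2 fun x hx => ?_
      rw [← hfix k hkK hkk]
      rw [← hfix k' hk2 hk'1] at hx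
      refine ⟨h.norm g (hMH (hT.le g.2)) x hx.1, mem_centralizer_singleton_iff.2 ?_⟩
      have hxk := mem_centralizer_singleton_iff.1 hx.2
      calc (g : G) * x * (g : G)⁻¹ * k = g * (x * k') * (g : G)⁻¹ := by rw [hk']; group
        _ = g * (k' * x) * (g : G)⁻¹ := by rw [hxk]
        _ = k * (g * x * (g : G)⁻¹) := by rw [hk']; group
  obtain ⟨F, -, hFn, hFc⟩ := H2.exists_kernel hFC
  have hFne : F ≠ ⊥ := fun e => hFC.2.1 (by rw [e] at hFc; exact isComplement'_bot_left.1 hFc)
  have hFnt : F ≠ ⊤ := fun e => hFC.1 (by rw [e] at hFc; exact isComplement'_top_left.1 hFc)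
  have hFM : M ≤ normalizer ((F.map T.subtype : Subgroup G) : Set G) := by
    refine hgen.trans (sup_le ?_ ?_)
    · refine nm_of fun u hu x hx => ?_
      obtain ⟨f, hf, rfl⟩ := hx
      exact ⟨(⟨u, hu⟩ : ↥T) * f * (⟨u, hu⟩ : ↥T)⁻¹, hFn.conj_mem f hf _, rfl⟩
    · refine nm_of fun c hc x hx => ?_
      have hxT : x ∈ T := map_subtype_le F hx
      rwa [← mem_centralizer_iff.1 hc.2 x hxT, mul_inv_cancel_right]
  rcases hT.min (F.map T.subtype) (map_subtype_le F) hFM with e | e
  · exact hFne (map_injective (f := T.subtype) Subtype.val_injective (e.trans (Subgroup.map_bot _).symm))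
  · refine hFnt (map_injective (f := T.subtype) Subtype.val_injective ?_)
    rw [e, ← MonoidHom.range_eq_map, T.range_subtype]

end Min

/-- `H` is almost simple. -/
theorem almost_simple [Finite G] :
    ∃ M : Subgroup G, M ≤ H ∧ H ≤ normalizer (M : Set G) ∧ IsSimpleGroup ↥M ∧
      (¬ ∀ a ∈ M, ∀ b ∈ M, a * b = b * a) ∧ H ⊓ centralizer (M : Set G) = ⊥ := by
  have hHne : H ≠ ⊥ := fun e => h.nsol (by
    subst e
    exact Group.isSolvable_of_comm fun a b => Subsingleton.elim _ _)
  obtain ⟨M, ⟨hMH, hMne, hMn⟩, hMmin'⟩ :=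
    (Set.toFinite {K : Subgroup G | K ≤ H ∧ K ≠ ⊥ ∧ H ≤ normalizer (K : Set G)}).exists_minimal
      ⟨H, le_rfl, hHne, le_normalizer⟩
  have hMmin : ∀ K : Subgroup G, K ≤ M → H ≤ normalizer (K : Set G) → K = ⊥ ∨ K = M :=
    fun K hK hKn => (em (K = ⊥)).imp id fun hKne =>
      le_antisymm hK (hMmin' ⟨hK.trans hMH, hKne, hKn⟩ hK)
  obtain ⟨T, ⟨hTM, hTne, hTn⟩, hTmin'⟩ :=
    (Set.toFinite {K : Subgroup G | K ≤ M ∧ K ≠ ⊥ ∧ M ≤ normalizer (K : Set G)}).exists_minimal
      ⟨M, le_rfl, hMne, le_normalizer⟩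
  have hT : MinIn M T := ⟨hTM, hTne, hTn, fun K hK hKn => (em (K = ⊥)).imp id fun hKne =>
    le_antisymm hK (hTmin' ⟨hK.trans hTM, hKne, hKn⟩ hK)⟩
  by_cases hTeq : T = M
  · subst hTeq
    refine ⟨T, hMH, hMn, ?_, h.M_nonabelian hMH hMne hMn,
      h.centralizer_bot hMH hMne hMn hMmin⟩
    haveI : Nontrivial ↥T := (Subgroup.nontrivial_iff_ne_bot T).2 hMne
    refine ⟨fun J hJ => ?_⟩
    rcases hT.min (J.map T.subtype) (map_subtype_le J) (nm_of fun u hu x hx => by
        obtain ⟨f, hf, rfl⟩ := hx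
        exact ⟨(⟨u, hu⟩ : ↥T) * f * (⟨u, hu⟩ : ↥T)⁻¹, hJ.conj_mem f hf _, rfl⟩) with e | e
    · exact Or.inl (map_injective (f := T.subtype) Subtype.val_injective (e.trans (Subgroup.map_bot _).symm))
    · right
      refine map_injective (f := T.subtype) Subtype.val_injective ?_
      rw [e, ← MonoidHom.range_eq_map, T.range_subtype]
  exfalso
  set J : Subgroup G := ⨆ g : ↥H, cj (g : G) T with hJ
  have hJn : H ≤ normalizer (J : Set G) := by
    intro x hx
    refine H70.cj_eq_self_iff.1 (H70.eq_of_cj_le ?_)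
    rw [hJ, H70.cj, Subgroup.map_iSup]
    refine iSup_le fun g => ?_
    show cj x (cj (g : G) T) ≤ _
    rw [H70.cj_cj]
    exact le_iSup (fun g : ↥H => cj (g : G) T) (⟨x * g, mul_mem hx g.2⟩ : ↥H)
  have hJM : J = M := by
    refine (hMmin J (iSup_le fun g => (h.minIn_conj hMn g.2 hT).le) hJn).resolve_left fun e => ?_
    have := le_iSup (fun g : ↥H => cj (g : G) T) (1 : ↥H)
    rw [← hJ, e] at this
    exact hTne (by simpa using this)
  have hgen : M ≤ T ⊔ M ⊓ centralizer (T : Set G) := by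
    refine hJM.ge.trans (iSup_le fun g => ?_)
    by_cases e : cj (g : G) T = T
    · exact e.le.trans le_sup_left
    · exact (le_inf (h.minIn_conj hMn g.2 hT).le
        (h.minIn_commute hT (h.minIn_conj hMn g.2 hT) e)).trans le_sup_right
  obtain ⟨g, hg⟩ : ∃ g : ↥H, cj (g : G) T ≠ T := by
    by_contra hc
    push Not at hc
    exact hTeq ((hMmin T hTM fun x hx => H70.cj_eq_self_iff.1 (hc ⟨x, hx⟩)).resolve_left hTne)
  exact h.false_of_two_factors hMH hMne hMn hMmin hT (h.minIn_conj hMn g.2 hT) hg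
    (H70.card_cj _ _) hgen

end Hyp

end H80.XA
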